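import Mathlib.RingTheory.PowerSeries.Inverse
import Mathlib.LinearAlgebra.Dimension.Finite
import Mathlib

/-!
# Ideals in subrings of a product of power series rings
-/

set_option autoImplicit false

universe u

open PowerSeries

namespace Groth.Agent.CurveSing5

variable {k : Type u} [Field k] {s : ℕ}

theorem le_order_iff_dvd (f : k⟦X⟧) (n : ℕ) : (n : ℕ∞) ≤ f.order ↔ X ^ n ∣ f := by
  rw [X_pow_dvd_iff]
  exact ⟨fun h m hm => coeff_of_lt_order m (lt_of_lt_of_le (by exact_mod_cast hm) h), nat_le_order f n⟩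

theorem exists_eq_mul {f g : k⟦X⟧} {l c : ℕ} (hf : f.order = l) (hg : ((l + c : ℕ) : ℕ∞) ≤ g.order) :
    ∃ h, h * f = g ∧ (c : ℕ∞) ≤ h.order := by
  obtain ⟨v, hv⟩ := (le_order_iff_dvd f l).1 hf.ge
  have hu : IsUnit v := by
    rw [isUnit_iff_constantCoeff, isUnit_iff_ne_zero]
    intro h0
    obtain ⟨v', rfl⟩ := X_dvd_iff.2 h0
    have : ((l + 1 : ℕ) : ℕ∞) ≤ f.order := (le_order_iff_dvd f (l + 1)).2 ⟨v', by rw [hv]; ring⟩
    rw [hf] at this
    exact absurd (by exact_mod_cast this : l + 1 ≤ l) (by omega)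
  obtain ⟨w, hw⟩ := (le_order_iff_dvd g (l + c)).1 hg
  obtain ⟨v, rfl⟩ := hu
  exact ⟨X ^ c * w * ((v⁻¹ : k⟦X⟧ˣ) : k⟦X⟧), by
    rw [hv, hw, pow_add, show X ^ c * w * ((v⁻¹ : k⟦X⟧ˣ) : k⟦X⟧) * (X ^ l * (v : k⟦X⟧)) =
      X ^ l * X ^ c * w * (((v⁻¹ : k⟦X⟧ˣ) : k⟦X⟧) * (v : k⟦X⟧)) by ring, Units.inv_mul, mul_one],
    (le_order_iff_dvd _ c).2 ⟨w * ((v⁻¹ : k⟦X⟧ˣ) : k⟦X⟧), mul_assoc _ _ _⟩⟩

variable {R : Subalgebra k (Fin s → k⟦X⟧)} {c : Fin s → ℕ}
  (hc : ∀ f : Fin s → k⟦X⟧, (∀ g : Fin s → k⟦X⟧, g * f ∈ R) ↔ ∀ i, ((c i : ℕ) : ℕ∞) ≤ (f i).order)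
include hc

theorem single_mem (i : Fin s) {h : k⟦X⟧} (hh : (c i : ℕ∞) ≤ h.order) : Pi.single i h ∈ R := by
  have := (hc (Pi.single i h)).2 (fun j => ?_) 1
  · rwa [one_mul] at this
  · rcases eq_or_ne j i with rfl | hji
    · simpa using hh
    · simp [Pi.single_eq_of_ne hji]

/-- Tuples of large order lie in the ideal. -/
theorem mem_of_order (J : Ideal ↥R) (l : Fin s → ℕ)
    (hl : ∀ i : Fin s, ∃ f ∈ J, ((f : Fin s → k⟦X⟧) i).order = ((l i : ℕ) : ℕ∞))
    (g : Fin s → k⟦X⟧) (hg : ∀ i : Fin s, ((l i + c i : ℕ) : ℕ∞) ≤ (g i).order) :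
    ∃ hgR : g ∈ R, (⟨g, hgR⟩ : ↥R) ∈ J := by
  choose f hfJ hfo using hl
  choose h hh hho using fun i => exists_eq_mul (hfo i) (hg i)
  let x : ↥R := ∑ i, (⟨Pi.single i (h i), single_mem hc i (hho i)⟩ : ↥R) * f i
  have hx : (x : Fin s → k⟦X⟧) = g := by
    ext1 j
    simp only [x, AddSubmonoidClass.coe_finsetSum, Subalgebra.coe_mul, Finset.sum_apply, Pi.mul_apply]
    rw [Finset.sum_eq_single j (fun b _ hb => by rw [Pi.single_eq_of_ne hb.symm, zero_mul])
      (fun h => absurd (Finset.mem_univ j) h), Pi.single_eq_same, hh]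
  refine ⟨hx ▸ x.2, ?_⟩
  rw [show (⟨g, hx ▸ x.2⟩ : ↥R) = x from Subtype.ext hx.symm]
  exact Ideal.sum_mem _ fun i _ => J.mul_mem_left _ (hfJ i)

omit hc

theorem order_ge_of_map_eq (I : Ideal ↥R) (a : Fin s → ℕ)
    (ha : ∀ i : Fin s, Ideal.map ((Pi.evalAlgHom k (fun _ : Fin s => k⟦X⟧) i).comp R.val) I =
      Ideal.span {X ^ (a i)}) (f : ↥R) (hf : f ∈ I) (i : Fin s) :
    (a i : ℕ∞) ≤ ((f : Fin s → k⟦X⟧) i).order := by
  rw [le_order_iff_dvd, ← Ideal.mem_span_singleton, ← ha i]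
  exact Ideal.mem_map_of_mem _ hf

theorem exists_order_eq (I : Ideal ↥R) (a : Fin s → ℕ)
    (ha : ∀ i : Fin s, Ideal.map ((Pi.evalAlgHom k (fun _ : Fin s => k⟦X⟧) i).comp R.val) I =
      Ideal.span {X ^ (a i)}) (i : Fin s) :
    ∃ f ∈ I, ((f : Fin s → k⟦X⟧) i).order = (a i : ℕ∞) := by
  by_contra! hne
  have hle : Ideal.map ((Pi.evalAlgHom k (fun _ : Fin s => k⟦X⟧) i).comp R.val) I ≤
      Ideal.span {(X : k⟦X⟧) ^ (a i + 1)} := by
    refine Ideal.map_le_iff_le_comap.2 fun f hf => ?_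
    rw [Ideal.mem_comap, Ideal.mem_span_singleton, ← le_order_iff_dvd]
    have h1 := lt_of_le_of_ne (order_ge_of_map_eq I a ha f hf i) (hne f hf).symm
    exact (ENat.add_one_le_iff (ENat.natCast_ne_top _)).2 h1
  rw [ha i, Ideal.span_singleton_le_span_singleton, X_pow_dvd_iff] at hle
  have := hle (a i) (by omega)
  rw [coeff_X_pow, if_pos rfl] at this
  exact one_ne_zero this

end Groth.Agent.CurveSing5

namespace Groth.Agent.CurveSing5

variable {k : Type u} [Field k] {s : ℕ}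

/-- Truncation of a tuple of power series. -/
noncomputable def trunc (n : Fin s → ℕ) : (Fin s → k⟦X⟧) →ₗ[k] (((i : Fin s) × Fin (n i)) → k) :=
  LinearMap.pi fun p => (coeff (p.2 : ℕ)).comp (LinearMap.proj p.1)

theorem mem_ker_trunc {n : Fin s → ℕ} {g : Fin s → k⟦X⟧} :
    g ∈ LinearMap.ker (trunc n) ↔ ∀ i, (n i : ℕ∞) ≤ (g i).order := by
  rw [LinearMap.mem_ker, funext_iff]
  exact ⟨fun h i => nat_le_order _ _ fun m hm => h ⟨i, ⟨m, hm⟩⟩,
    fun h p => coeff_of_lt_order _ (lt_of_lt_of_le (Nat.cast_lt.2 p.2.2) (h p.1))⟩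

theorem trunc_surjective (n : Fin s → ℕ) : Function.Surjective (trunc (k := k) n) := fun v =>
  ⟨fun i => PowerSeries.mk fun m => if hm : m < n i then v ⟨i, ⟨m, hm⟩⟩ else 0, funext fun p => by
    simp [trunc]⟩

/-- The quotient by the kernel of truncation. -/
noncomputable def truncEquiv (n : Fin s → ℕ) :
    ((Fin s → k⟦X⟧) ⧸ LinearMap.ker (trunc (k := k) n)) ≃ₗ[k] (((i : Fin s) × Fin (n i)) → k) :=
  LinearMap.quotKerEquivOfSurjective (trunc (k := k) n) (trunc_surjective n)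

theorem finite_quotient_trunc (n : Fin s → ℕ) :
    Module.Finite k ((Fin s → k⟦X⟧) ⧸ LinearMap.ker (trunc (k := k) n)) :=
  Module.Finite.equiv (truncEquiv (k := k) n).symm

theorem finrank_quotient_trunc (n : Fin s → ℕ) :
    Module.finrank k ((Fin s → k⟦X⟧) ⧸ LinearMap.ker (trunc (k := k) n)) = ∑ i, n i := by
  refine (truncEquiv (k := k) n).finrank_eq.trans ?_
  rw [Module.finrank_pi, Fintype.card_sigma]
  simp

theorem finrank_quotient_le {V : Type u} [AddCommGroup V] [Module k V] {P Q : Submodule k V} (h : P ≤ Q)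
    [Module.Finite k (V ⧸ P)] : Module.finrank k (V ⧸ Q) ≤ Module.finrank k (V ⧸ P) :=
  LinearMap.finrank_le_finrank_of_surjective (f := Submodule.factor h) (Submodule.factor_surjective h)

theorem finrank_quotient_lt {V : Type u} [AddCommGroup V] [Module k V] {P Q : Submodule k V} (h : P < Q)
    [Module.Finite k (V ⧸ P)] : Module.finrank k (V ⧸ Q) < Module.finrank k (V ⧸ P) := by
  let T := Q.map P.mkQ
  have hT : 0 < Module.finrank k T := by
    obtain ⟨q, hq, hqP⟩ := SetLike.exists_of_lt h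
    refine Module.finrank_pos_iff_exists_ne_zero.2 ⟨⟨P.mkQ q, Submodule.mem_map_of_mem hq⟩, fun h0 => hqP ?_⟩
    exact (Submodule.Quotient.mk_eq_zero P).1 (congrArg Subtype.val h0)
  rw [← (Submodule.quotientQuotientEquivQuotient P Q h.le).finrank_eq]
  have := Submodule.finrank_quotient_add_finrank T
  change Module.finrank k ((V ⧸ P) ⧸ T) < _
  omega

theorem finrank_quotient_map_val (R : Subalgebra k (Fin s → k⟦X⟧)) (I : Ideal ↥R)
    [Module.Finite k ((Fin s → k⟦X⟧) ⧸ (I.restrictScalars k).map R.val.toLinearMap)] :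
    Module.finrank k ((Fin s → k⟦X⟧) ⧸ (I.restrictScalars k).map R.val.toLinearMap) =
      Module.finrank k (↥R ⧸ I) + Module.finrank k ((Fin s → k⟦X⟧) ⧸ Subalgebra.toSubmodule R) := by
  let N := (I.restrictScalars k).map R.val.toLinearMap
  have hN : N ≤ Subalgebra.toSubmodule R := by
    rintro _ ⟨f, -, rfl⟩; exact f.2
  let φ : ↥R →ₗ[k] (Fin s → k⟦X⟧) ⧸ N := N.mkQ.comp R.val.toLinearMap
  have hφker : LinearMap.ker φ = I.restrictScalars k := by
    rw [LinearMap.ker_comp, Submodule.ker_mkQ, Submodule.comap_map_eq_of_injective]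
    exact Subtype.val_injective
  have hφrange : LinearMap.range φ = (Subalgebra.toSubmodule R).map N.mkQ := by
    rw [LinearMap.range_comp]
    congr 1
    ext x
    exact ⟨by rintro ⟨y, rfl⟩; exact y.2, fun hx => ⟨⟨x, hx⟩, rfl⟩⟩
  have e1 : Module.finrank k ((Subalgebra.toSubmodule R).map N.mkQ) = Module.finrank k (↥R ⧸ I) := by
    rw [← hφrange, ← φ.quotKerEquivRange.finrank_eq, hφker]
    exact (Submodule.Quotient.restrictScalarsEquiv k I).finrank_eq
  have e2 := Submodule.finrank_quotient_add_finrank ((Subalgebra.toSubmodule R).map N.mkQ)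
  rw [(Submodule.quotientQuotientEquivQuotient N _ hN).finrank_eq, e1] at e2
  change Module.finrank k ((Fin s → k⟦X⟧) ⧸ N) = _
  omega

end Groth.Agent.CurveSing5
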